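import Groth.Agent.Brauer.K440.RedCP

set_option autoImplicit false

/-!
# Splitting fields: enlarging the field
-/

namespace K440.SplitMono

open Module
open scoped TensorProduct

universe u v w

/-- If `K` splits `A` and `K` embeds in `K'` over `k`, then `K'` splits `A` (all universes). -/
theorem splits_mono (k : Type u) [Field k] (A : Type v) [Ring A] [Algebra k A]
    {K : Type*} [Field K] [Algebra k K] {K' : Type*} [Field K'] [Algebra k K']
    (f : K →ₐ[k] K') (h : Curves.Splits k A K) : Curves.Splits k A K' := by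
  obtain ⟨_, _, _⟩ := Groth.Agent.CurvesA.SepSplit.csa_of_splits k K A h
  obtain ⟨n, hn, ⟨φ⟩⟩ := h
  let g : A →ₐ[k] Matrix (Fin n) (Fin n) K' :=
    (f.mapMatrix).comp ((φ.toAlgHom.restrictScalars k).comp Algebra.TensorProduct.includeRight)
  obtain ⟨ψ, _⟩ := RedCP.exists_splitting_of_algHom
    (by simpa using RedCP.card_of_splitting φ) g
  exact ⟨n, hn, ⟨ψ⟩⟩

end K440.SplitMono
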