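import Groth.Agent.CurvesA.MatrixDiv
import Groth.Agent.CurvesA.SplitEmbed
import Mathlib.RingTheory.SimpleModule.WedderburnArtin
import Mathlib.Data.Matrix.Composition
import Mathlib.LinearAlgebra.Matrix.Reindex

set_option autoImplicit false

/-!
# Wedderburn for central simple algebras, iterated matrix algebras, cancellation
-/

namespace K440.Wed

open Module
open scoped TensorProduct

universe u v w

variable (k : Type u) [Field k]

/-- `M_n(M_a(D)) = M_{n a}(D)`. -/
noncomputable def matMat (D : Type v) [Ring D] [Algebra k D] (n a : ℕ) :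
    Matrix (Fin n) (Fin n) (Matrix (Fin a) (Fin a) D) ≃ₐ[k] Matrix (Fin (n * a)) (Fin (n * a)) D :=
  (Matrix.compAlgEquiv (Fin n) (Fin a) D k).trans (Matrix.reindexAlgEquiv k D finProdFinEquiv)

/-- Wedderburn's theorem for a central simple algebra. -/
theorem wedderburn (A : Type v) [Ring A] [Algebra k A] [Algebra.IsCentral k A] [IsSimpleRing A]
    [FiniteDimensional k A] :
    ∃ (a : ℕ) (_ : NeZero a) (D : Type v) (_ : DivisionRing D) (_ : Algebra k D)
      (_ : FiniteDimensional k D) (_ : Algebra.IsCentral k D),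
      Nonempty (A ≃ₐ[k] Matrix (Fin a) (Fin a) D) := by
  have : IsArtinianRing A := IsArtinianRing.of_finite k _
  obtain ⟨a, ha, D, _, _, hD, ⟨e⟩⟩ :=
    IsSimpleRing.exists_algEquiv_matrix_divisionRing_finite k A
  have hcent : Algebra.IsCentral k (Matrix (Fin a) (Fin a) D) :=
    Algebra.IsCentral.of_algEquiv k _ _ e
  exact ⟨a, ha, D, inferInstance, inferInstance, hD,
    Groth.Agent.CurvesA.SplitEmbed.isCentral_of_matrix k D a, ⟨e⟩⟩

/-- Brauer equivalent central simple algebras are matrix algebras over one division algebra. -/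
theorem exists_common (A : Type v) [Ring A] [Algebra k A] [Algebra.IsCentral k A] [IsSimpleRing A]
    [FiniteDimensional k A] (B : Type w) [Ring B] [Algebra k B] [Algebra.IsCentral k B]
    [IsSimpleRing B] [FiniteDimensional k B] (n m : ℕ) (hn : n ≠ 0) (hm : m ≠ 0)
    (e : Matrix (Fin n) (Fin n) A ≃ₐ[k] Matrix (Fin m) (Fin m) B) :
    ∃ (a b : ℕ) (_ : NeZero a) (_ : NeZero b) (D : Type v) (_ : DivisionRing D) (_ : Algebra k D)
      (_ : FiniteDimensional k D) (_ : Algebra.IsCentral k D),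
      n * a = m * b ∧ Nonempty (A ≃ₐ[k] Matrix (Fin a) (Fin a) D) ∧
        Nonempty (B ≃ₐ[k] Matrix (Fin b) (Fin b) D) := by
  obtain ⟨a, ha, D, _, _, _, _, ⟨f⟩⟩ := wedderburn k A
  obtain ⟨b, hb, D', _, _, _, _, ⟨g⟩⟩ := wedderburn k B
  have h1 : NeZero (n * a) := ⟨Nat.mul_ne_zero hn ha.out⟩
  have h2 : NeZero (m * b) := ⟨Nat.mul_ne_zero hm hb.out⟩
  let E : Matrix (Fin (n * a)) (Fin (n * a)) D ≃ₐ[k] Matrix (Fin (m * b)) (Fin (m * b)) D' :=
    (matMat k D n a).symm.trans (f.symm.mapMatrix.trans (e.trans (g.mapMatrix.trans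
      (matMat k D' m b))))
  obtain ⟨φ⟩ := Groth.Agent.CurvesA.MatrixDiv.nonempty_algEquiv D (n * a) k D' (m * b) E
  have hd : finrank k D = finrank k D' := φ.toLinearEquiv.finrank_eq
  have hE := E.toLinearEquiv.finrank_eq
  rw [Module.finrank_matrix, Module.finrank_matrix, hd] at hE
  have hpos : 0 < finrank k D' := Module.finrank_pos
  simp only [Fintype.card_fin] at hE
  have hE' : (n * a) * (n * a) = (m * b) * (m * b) := Nat.eq_of_mul_eq_mul_right hpos hE
  have hEq : n * a = m * b := Nat.mul_self_inj.mp hE'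
  exact ⟨a, b, ha, hb, D, inferInstance, inferInstance, inferInstance, inferInstance, hEq, ⟨f⟩,
    ⟨g.trans φ.symm.mapMatrix⟩⟩

end K440.Wed
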