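import Mathlib.LinearAlgebra.Charpoly.ToMatrix
import Mathlib.LinearAlgebra.Charpoly.BaseChange
import Mathlib.LinearAlgebra.Matrix.Charpoly.Coeff
import Mathlib.LinearAlgebra.Matrix.ToLin
import Mathlib.LinearAlgebra.Matrix.Block
import Mathlib.RingTheory.TensorProduct.Free
import Mathlib.RingTheory.Norm.Basic
import Mathlib.RingTheory.Trace.Basic
import Mathlib.RingTheory.UniqueFactorizationDomain.Multiplicity
import Mathlib.RingTheory.Polynomial.UniqueFactorization

set_option autoImplicit false

/-!
# Characteristic polynomials of left multiplications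
-/

namespace K440.MatCP

open Module Polynomial Matrix
open scoped TensorProduct

universe u v w

/-- Characteristic polynomial of a block diagonal matrix. -/
theorem charpoly_blockDiagonal {R : Type u} [CommRing R] {m o : Type*} [Fintype m] [DecidableEq m]
    [Fintype o] [DecidableEq o] (M : o → Matrix m m R) :
    (Matrix.blockDiagonal M).charpoly = ∏ i, (M i).charpoly := by
  classical
  unfold Matrix.charpoly
  rw [← Matrix.det_blockDiagonal]
  congr 1
  ext ⟨i, k⟩ ⟨j, k'⟩ : 2
  simp only [Matrix.charmatrix_apply, Matrix.blockDiagonal_apply, Matrix.diagonal_apply, Prod.mk.injEq]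
  by_cases hk : k = k' <;> by_cases hi : i = j <;> simp [hk, hi]

theorem toMatrix_mulLeft {R : Type u} [CommRing R] {n : Type*} [Fintype n] [DecidableEq n]
    (M : Matrix n n R) :
    LinearMap.toMatrix (Matrix.stdBasis R n n) (Matrix.stdBasis R n n) (LinearMap.mulLeft R M) =
      Matrix.blockDiagonal (fun _ : n => M) := by
  ext ⟨i, j⟩ ⟨i', j'⟩
  rw [LinearMap.toMatrix_apply, Matrix.blockDiagonal_apply, Matrix.stdBasis_eq_single,
    LinearMap.mulLeft_apply]
  have : ∀ (X : Matrix n n R), (Matrix.stdBasis R n n).repr X (i, j) = X i j := by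
    intro X
    simp [Matrix.stdBasis]
  rw [this]
  simp only [Matrix.mul_apply, Matrix.single_apply]
  by_cases h : j = j'
  · subst h; simp
  · simp [h, Ne.symm h]

/-- Characteristic polynomial of left multiplication by a matrix. -/
theorem charpoly_mulLeft {R : Type u} [CommRing R] [Nontrivial R] {n : Type*} [Fintype n]
    [DecidableEq n] (M : Matrix n n R) :
    (LinearMap.mulLeft R M).charpoly = M.charpoly ^ Fintype.card n := by
  rw [← LinearMap.charpoly_toMatrix _ (Matrix.stdBasis R n n), toMatrix_mulLeft,
    charpoly_blockDiagonal]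
  simp

theorem trace_mulLeft {R : Type u} [CommRing R] {n : Type*} [Fintype n]
    [DecidableEq n] (M : Matrix n n R) :
    LinearMap.trace R _ (LinearMap.mulLeft R M) = Fintype.card n • M.trace := by
  rw [LinearMap.trace_eq_matrix_trace R (Matrix.stdBasis R n n), toMatrix_mulLeft,
    Matrix.trace_blockDiagonal]
  simp

/-- Scalar multiplication by an element of a finite field extension on a vector space. -/
theorem charpoly_of_field (k : Type u) [Field k] (K : Type v) [Field K] [Algebra k K]
    [FiniteDimensional k K] (V : Type w) [AddCommGroup V] [Module k V] [Module K V]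
    [IsScalarTower k K V] [FiniteDimensional k V] (x : K) (f : V →ₗ[k] V)
    (hf : ∀ v, f v = x • v) :
    f.charpoly = (LinearMap.mulLeft k x).charpoly ^ finrank K V := by
  classical
  have : FiniteDimensional K V := FiniteDimensional.right k K V
  let b := Module.finBasis k K
  let c := Module.finBasis K V
  rw [← LinearMap.charpoly_toMatrix f (b.smulTower c),
    ← LinearMap.charpoly_toMatrix (LinearMap.mulLeft k x) b]
  have : LinearMap.toMatrix (b.smulTower c) (b.smulTower c) f =
      Matrix.blockDiagonal (fun _ => LinearMap.toMatrix b b (LinearMap.mulLeft k x)) := by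
    ext ⟨i, j⟩ ⟨i', j'⟩
    rw [LinearMap.toMatrix_apply, Matrix.blockDiagonal_apply, Module.Basis.smulTower_apply, hf,
      Module.Basis.smulTower_repr_mk, ← mul_smul, map_smul, Module.Basis.repr_self]
    by_cases h : j = j'
    · subst h
      simp [LinearMap.toMatrix_apply]
    · simp [h]
  rw [this, charpoly_blockDiagonal]
  simp

/-- Monic polynomials over a field are determined by a positive power. -/
theorem eq_of_pow_eq {K : Type u} [Field K] {P Q : K[X]} (hP : P.Monic) (hQ : Q.Monic) {n : ℕ}
    (hn : n ≠ 0) (h : P ^ n = Q ^ n) : P = Q := by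
  refine eq_of_monic_of_associated hP hQ ?_
  exact associated_of_dvd_dvd
    ((UniqueFactorizationMonoid.pow_dvd_pow_iff_dvd hn).1 (dvd_of_eq h))
    ((UniqueFactorizationMonoid.pow_dvd_pow_iff_dvd hn).1 (dvd_of_eq h.symm))

end K440.MatCP
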