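import Groth.Agent.Brauer.K440.MatCP
import Groth.Agent.CurvesA.SepSplit2
import Mathlib.FieldTheory.Galois.Basic

set_option autoImplicit false

/-!
# The reduced characteristic polynomial, reduced norm and reduced trace of a central simple algebra

The reduced characteristic polynomial of an element `a` of a central simple algebra `A` of
degree `n` is the unique monic polynomial whose `n`-th power is the characteristic polynomial of
the left multiplication by `a`; over every splitting it becomes the characteristic polynomial.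
-/

namespace K440.RedCP

open Module Polynomial
open scoped TensorProduct

universe u v w

section General

variable {k : Type u} [Field k] {A : Type v} [Ring A] [Algebra k A]

theorem mulLeft_baseChange (K : Type w) [Field K] [Algebra k K] (a : A) :
    (LinearMap.mulLeft k a).baseChange K = LinearMap.mulLeft K ((1 : K) ⊗ₜ[k] a) := by
  ext x
  simp

theorem charpoly_mulLeft_baseChange [FiniteDimensional k A] (K : Type w) [Field K] [Algebra k K]
    (a : A) : (LinearMap.mulLeft K ((1 : K) ⊗ₜ[k] a)).charpoly =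
      ((LinearMap.mulLeft k a).charpoly).map (algebraMap k K) := by
  rw [← mulLeft_baseChange, LinearMap.charpoly_baseChange]

theorem charpoly_mulLeft_algEquiv {K : Type w} [Field K] {B : Type u} [Ring B] [Algebra K B]
    [FiniteDimensional K B] {C : Type v} [Ring C] [Algebra K C] [FiniteDimensional K C]
    (e : B ≃ₐ[K] C) (b : B) :
    (LinearMap.mulLeft K (e b)).charpoly = (LinearMap.mulLeft K b).charpoly := by
  rw [← LinearEquiv.charpoly_conj e.toLinearEquiv (LinearMap.mulLeft K b)]
  congr 1
  ext x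
  simp [LinearEquiv.conj_apply]

theorem charpoly_pow_of_splitting [FiniteDimensional k A] {K : Type w} [Field K] [Algebra k K]
    {ι : Type*} [Fintype ι] [DecidableEq ι] (φ : K ⊗[k] A ≃ₐ[K] Matrix ι ι K) (a : A) :
    (φ (1 ⊗ₜ[k] a)).charpoly ^ Fintype.card ι =
      ((LinearMap.mulLeft k a).charpoly).map (algebraMap k K) := by
  rw [← charpoly_mulLeft_baseChange K a, ← MatCP.charpoly_mulLeft, charpoly_mulLeft_algEquiv]

theorem card_of_splitting {K : Type w} [Field K] [Algebra k K]
    {ι : Type*} [Fintype ι] [DecidableEq ι] (φ : K ⊗[k] A ≃ₐ[K] Matrix ι ι K) :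
    finrank k A = Fintype.card ι ^ 2 := by
  have h1 := φ.toLinearEquiv.finrank_eq
  rw [Module.finrank_baseChange, Module.finrank_matrix] at h1
  rw [h1]; simp [sq]

end General

variable (k : Type u) [Field k] (A : Type v) [Ring A] [Algebra k A]
  [Algebra.IsCentral k A] [IsSimpleRing A] [FiniteDimensional k A]

/-- The degree of a central simple algebra. -/
noncomputable def deg (k : Type u) [Field k] (A : Type v) [Ring A] [Algebra k A] : ℕ :=
  Nat.sqrt (finrank k A)

theorem deg_eq {k : Type u} [Field k] {A : Type v} [Ring A] [Algebra k A] {n : ℕ}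
    (h : finrank k A = n ^ 2) : deg k A = n := by
  rw [deg, h]; exact Nat.sqrt_eq' n

omit [Algebra.IsCentral k A] [IsSimpleRing A] [FiniteDimensional k A] in
theorem deg_eq_of_splitting {K : Type w} [Field K] [Algebra k K]
    {ι : Type*} [Fintype ι] [DecidableEq ι] (φ : K ⊗[k] A ≃ₐ[K] Matrix ι ι K) :
    deg k A = Fintype.card ι := deg_eq (card_of_splitting φ)

theorem finrank_eq_deg_sq : finrank k A = deg k A ^ 2 := by
  obtain ⟨K, _, _, _, _, n, hn, ⟨φ⟩⟩ :=
    Groth.Agent.CurvesA.SepSplit.exists_galois_splitting k A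
  rw [deg_eq_of_splitting k A φ, card_of_splitting φ]

theorem deg_pos : 0 < deg k A := by
  have h := finrank_eq_deg_sq k A
  have h2 : 0 < finrank k A := Module.finrank_pos
  rcases Nat.eq_zero_or_pos (deg k A) with h0 | h0
  · rw [h, h0] at h2; simp at h2
  · exact h0

theorem exists_rcp (a : A) : ∃ P : k[X], P.Monic ∧
    P ^ deg k A = (LinearMap.mulLeft k a).charpoly := by
  obtain ⟨K, _, _, _, _, n, hn, ⟨φ⟩⟩ :=
    Groth.Agent.CurvesA.SepSplit.exists_galois_splitting k A
  have hd : deg k A = n := by simpa using deg_eq_of_splitting k A φ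
  have hpow := charpoly_pow_of_splitting φ a
  set Q := (φ (1 ⊗ₜ[k] a)).charpoly with hQ
  have hQm : Q.Monic := Matrix.charpoly_monic _
  have hfix : ∀ σ : K ≃ₐ[k] K, Q.map (σ : K →+* K) = Q := by
    intro σ
    refine MatCP.eq_of_pow_eq (hQm.map _) hQm hn ?_
    rw [Fintype.card_fin] at hpow
    rw [← Polynomial.map_pow, hpow, Polynomial.map_map]
    congr 1
    ext x; simp
  have hcoeff : ∀ i, Q.coeff i ∈ Set.range (algebraMap k K) := by
    intro i
    have : Q.coeff i ∈ (⊥ : IntermediateField k K) := by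
      rw [IsGalois.mem_bot_iff_fixed]
      intro σ
      have := congrArg (fun p => p.coeff i) (hfix σ)
      simpa using this
    rwa [IntermediateField.mem_bot] at this
  obtain ⟨P, hP⟩ : ∃ P : k[X], P.map (algebraMap k K) = Q := by
    rw [← Polynomial.mem_lifts, Polynomial.lifts_iff_coeff_lifts]
    exact hcoeff
  refine ⟨P, ?_, ?_⟩
  · exact Polynomial.monic_of_injective (algebraMap k K).injective (by rw [hP]; exact hQm)
  · apply Polynomial.map_injective _ (algebraMap k K).injective
    rw [Polynomial.map_pow, hP, ← hpow, hd, Fintype.card_fin]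

/-- The reduced characteristic polynomial. -/
noncomputable def rcp (a : A) : k[X] := (exists_rcp k A a).choose

theorem rcp_monic (a : A) : (rcp k A a).Monic := (exists_rcp k A a).choose_spec.1

theorem rcp_pow (a : A) : rcp k A a ^ deg k A = (LinearMap.mulLeft k a).charpoly :=
  (exists_rcp k A a).choose_spec.2

variable {k A}

theorem rcp_unique {a : A} {P : k[X]} (hP : P.Monic)
    (h : P ^ deg k A = (LinearMap.mulLeft k a).charpoly) : P = rcp k A a :=
  MatCP.eq_of_pow_eq hP (rcp_monic k A a) (deg_pos k A).ne' (by rw [h, rcp_pow])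

/-- Over every splitting the reduced characteristic polynomial is the characteristic polynomial. -/
theorem map_rcp {K : Type w} [Field K] [Algebra k K] {ι : Type*} [Fintype ι] [DecidableEq ι]
    (φ : K ⊗[k] A ≃ₐ[K] Matrix ι ι K) (a : A) :
    (rcp k A a).map (algebraMap k K) = (φ (1 ⊗ₜ[k] a)).charpoly := by
  refine MatCP.eq_of_pow_eq ((rcp_monic k A a).map _) (Matrix.charpoly_monic _)
    (deg_pos k A).ne' ?_
  rw [← Polynomial.map_pow, rcp_pow, deg_eq_of_splitting k A φ, charpoly_pow_of_splitting φ]

theorem rcp_natDegree (a : A) : (rcp k A a).natDegree = deg k A := by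
  obtain ⟨K, _, _, _, _, n, hn, ⟨φ⟩⟩ :=
    Groth.Agent.CurvesA.SepSplit.exists_galois_splitting k A
  rw [← Polynomial.natDegree_map (algebraMap k K), map_rcp φ, Matrix.charpoly_natDegree_eq_dim,
    deg_eq_of_splitting k A φ]

/-- A `k`-algebra map to matrices of the right size is a splitting. -/
theorem exists_splitting_of_algHom {K : Type w} [Field K] [Algebra k K] {ι : Type*} [Fintype ι]
    [DecidableEq ι] (hdim : finrank k A = Fintype.card ι ^ 2) (f : A →ₐ[k] Matrix ι ι K) :
    ∃ φ : K ⊗[k] A ≃ₐ[K] Matrix ι ι K, ∀ a, φ (1 ⊗ₜ[k] a) = f a := by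
  have := Groth.Agent.CurvesA.SepSplit.isSimpleRing_baseChange k K A
  have hpos : 0 < Fintype.card ι := by
    rcases Nat.eq_zero_or_pos (Fintype.card ι) with h0 | h0
    · have h2 : 0 < finrank k A := Module.finrank_pos
      rw [hdim, h0] at h2; simp at h2
    · exact h0
  have : Nonempty ι := Fintype.card_pos_iff.1 hpos
  let g : K ⊗[k] A →ₐ[K] Matrix ι ι K := AlgHom.liftEquiv k K A (Matrix ι ι K) f
  have hinj : Function.Injective g := (g : K ⊗[k] A →+* Matrix ι ι K).injective
  have hfr : Module.finrank K (K ⊗[k] A) = Module.finrank K (Matrix ι ι K) := by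
    rw [Module.finrank_baseChange, hdim]
    simp [Module.finrank_matrix, sq]
  have hsurj : Function.Surjective g.toLinearMap :=
    (LinearMap.injective_iff_surjective_of_finrank_eq_finrank hfr).mp hinj
  refine ⟨AlgEquiv.ofBijective g ⟨hinj, hsurj⟩, fun a => ?_⟩
  change g (1 ⊗ₜ[k] a) = f a
  simp [g]

theorem map_rcp_of_algHom {K : Type w} [Field K] [Algebra k K] {ι : Type*} [Fintype ι]
    [DecidableEq ι] (hdim : finrank k A = Fintype.card ι ^ 2) (f : A →ₐ[k] Matrix ι ι K) (a : A) :
    (rcp k A a).map (algebraMap k K) = (f a).charpoly := by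
  obtain ⟨φ, hφ⟩ := exists_splitting_of_algHom hdim f
  rw [map_rcp φ, hφ]

/-! ### The reduced norm and trace -/

theorem algebraMap_coeff_zero {K : Type w} [Field K] [Algebra k K] {ι : Type*} [Fintype ι]
    [DecidableEq ι] (φ : K ⊗[k] A ≃ₐ[K] Matrix ι ι K) (a : A) :
    algebraMap k K ((-1) ^ deg k A * (rcp k A a).coeff 0) = (φ (1 ⊗ₜ[k] a)).det := by
  rw [map_mul, map_pow, map_neg, map_one, ← Polynomial.coeff_map, map_rcp φ,
    Matrix.det_eq_sign_charpoly_coeff, deg_eq_of_splitting k A φ]

theorem algebraMap_coeff_trace {K : Type w} [Field K] [Algebra k K] {ι : Type*} [Fintype ι]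
    [DecidableEq ι] (φ : K ⊗[k] A ≃ₐ[K] Matrix ι ι K) (a : A) :
    algebraMap k K (- (rcp k A a).coeff (deg k A - 1)) = (φ (1 ⊗ₜ[k] a)).trace := by
  have hι : 0 < Fintype.card ι := by
    rw [← deg_eq_of_splitting k A φ]; exact deg_pos k A
  have : Nonempty ι := Fintype.card_pos_iff.1 hι
  rw [map_neg, ← Polynomial.coeff_map, map_rcp φ, Matrix.trace_eq_neg_charpoly_coeff,
    deg_eq_of_splitting k A φ]

variable (k A)

/-- The reduced norm. -/
noncomputable def redNorm : A →* k where
  toFun a := (-1) ^ deg k A * (rcp k A a).coeff 0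
  map_one' := by
    obtain ⟨K, _, _, _, _, n, hn, ⟨φ⟩⟩ :=
      Groth.Agent.CurvesA.SepSplit.exists_galois_splitting k A
    apply (algebraMap k K).injective
    rw [algebraMap_coeff_zero φ, ← Algebra.TensorProduct.one_def, map_one, Matrix.det_one, map_one]
  map_mul' a b := by
    obtain ⟨K, _, _, _, _, n, hn, ⟨φ⟩⟩ :=
      Groth.Agent.CurvesA.SepSplit.exists_galois_splitting k A
    apply (algebraMap k K).injective
    rw [map_mul (algebraMap k K) (_ * _) (_ * _), algebraMap_coeff_zero φ,
      algebraMap_coeff_zero φ, algebraMap_coeff_zero φ,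
      ← Matrix.det_mul, ← map_mul, Algebra.TensorProduct.tmul_mul_tmul, one_mul]

theorem redNorm_apply (a : A) : redNorm k A a = (-1) ^ deg k A * (rcp k A a).coeff 0 := rfl

/-- The reduced trace. -/
noncomputable def redTrace : A →ₗ[k] k where
  toFun a := - (rcp k A a).coeff (deg k A - 1)
  map_add' a b := by
    obtain ⟨K, _, _, _, _, n, hn, ⟨φ⟩⟩ :=
      Groth.Agent.CurvesA.SepSplit.exists_galois_splitting k A
    apply (algebraMap k K).injective
    rw [map_add, algebraMap_coeff_trace φ, algebraMap_coeff_trace φ, algebraMap_coeff_trace φ,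
      ← Matrix.trace_add, ← map_add, TensorProduct.tmul_add]
  map_smul' c a := by
    obtain ⟨K, _, _, _, _, n, hn, ⟨φ⟩⟩ :=
      Groth.Agent.CurvesA.SepSplit.exists_galois_splitting k A
    apply (algebraMap k K).injective
    rw [algebraMap_coeff_trace φ, RingHom.id_apply, smul_eq_mul, map_mul,
      algebraMap_coeff_trace φ, TensorProduct.tmul_smul, ← algebraMap_smul K c, map_smul,
      Matrix.trace_smul, smul_eq_mul]

theorem redTrace_apply (a : A) : redTrace k A a = - (rcp k A a).coeff (deg k A - 1) := rfl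

variable {k A}

theorem algebraMap_redNorm {K : Type w} [Field K] [Algebra k K] {ι : Type*} [Fintype ι]
    [DecidableEq ι] (φ : K ⊗[k] A ≃ₐ[K] Matrix ι ι K) (a : A) :
    algebraMap k K (redNorm k A a) = (φ (1 ⊗ₜ[k] a)).det := algebraMap_coeff_zero φ a

theorem algebraMap_redTrace {K : Type w} [Field K] [Algebra k K] {ι : Type*} [Fintype ι]
    [DecidableEq ι] (φ : K ⊗[k] A ≃ₐ[K] Matrix ι ι K) (a : A) :
    algebraMap k K (redTrace k A a) = (φ (1 ⊗ₜ[k] a)).trace := algebraMap_coeff_trace φ a

theorem algebraMap_redNorm_of_algHom {K : Type w} [Field K] [Algebra k K] {ι : Type*} [Fintype ι]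
    [DecidableEq ι] (hdim : finrank k A = Fintype.card ι ^ 2) (f : A →ₐ[k] Matrix ι ι K) (a : A) :
    algebraMap k K (redNorm k A a) = (f a).det := by
  obtain ⟨φ, hφ⟩ := exists_splitting_of_algHom hdim f
  rw [algebraMap_redNorm φ, hφ]

theorem algebraMap_redTrace_of_algHom {K : Type w} [Field K] [Algebra k K] {ι : Type*} [Fintype ι]
    [DecidableEq ι] (hdim : finrank k A = Fintype.card ι ^ 2) (f : A →ₐ[k] Matrix ι ι K) (a : A) :
    algebraMap k K (redTrace k A a) = (f a).trace := by
  obtain ⟨φ, hφ⟩ := exists_splitting_of_algHom hdim f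
  rw [algebraMap_redTrace φ, hφ]

end K440.RedCP
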