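import Groth.Agent.Brauer.K440.RedCP
import Groth.Prelude.Def_GSzCSA

set_option autoImplicit false

/-!
# Reduced norms and traces in the sense of `CSAGal.IsRedNorm` and `CSAGal.IsRedTrace`
-/

namespace K440.RedCP

open Module Polynomial
open scoped TensorProduct

universe u v w

variable {k : Type u} [Field k] {A : Type v} [Ring A] [Algebra k A]
  [Algebra.IsCentral k A] [IsSimpleRing A] [FiniteDimensional k A]

theorem eq_redNorm {N : A →* k} (hN : CSAGal.IsRedNorm k A N) : N = redNorm k A := by
  obtain ⟨K, _, _, _, n, φ, hφ⟩ := hN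
  ext a
  apply (algebraMap k K).injective
  rw [hφ, algebraMap_redNorm φ]

theorem isRedNorm_redNorm : CSAGal.IsRedNorm k A (redNorm k A) := by
  obtain ⟨K, _, _, _, _, n, hn, ⟨φ⟩⟩ :=
    Groth.Agent.CurvesA.SepSplit.exists_galois_splitting k A
  exact ⟨K, inferInstance, inferInstance, inferInstance, n, φ, fun a => algebraMap_redNorm φ a⟩

theorem isRedNorm_iff {N : A →* k} : CSAGal.IsRedNorm k A N ↔ N = redNorm k A :=
  ⟨eq_redNorm, fun h => h ▸ isRedNorm_redNorm⟩

theorem eq_redTrace {T : A →+ k} (hT : CSAGal.IsRedTrace k A T) :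
    T = (redTrace k A).toAddMonoidHom := by
  obtain ⟨K, _, _, _, n, φ, hφ⟩ := hT
  ext a
  apply (algebraMap k K).injective
  rw [hφ, LinearMap.toAddMonoidHom_coe, algebraMap_redTrace φ]

theorem isRedTrace_redTrace : CSAGal.IsRedTrace k A (redTrace k A).toAddMonoidHom := by
  obtain ⟨K, _, _, _, _, n, hn, ⟨φ⟩⟩ :=
    Groth.Agent.CurvesA.SepSplit.exists_galois_splitting k A
  exact ⟨K, inferInstance, inferInstance, inferInstance, n, φ, fun a => algebraMap_redTrace φ a⟩

theorem isRedTrace_iff {T : A →+ k} :
    CSAGal.IsRedTrace k A T ↔ T = (redTrace k A).toAddMonoidHom :=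
  ⟨eq_redTrace, fun h => h ▸ isRedTrace_redTrace⟩

/-- The algebra norm is a power of the reduced norm. -/
theorem norm_eq_redNorm_pow (a : A) : Algebra.norm k a = redNorm k A a ^ deg k A := by
  have h := LinearMap.det_eq_sign_charpoly_coeff (LinearMap.mulLeft k a)
  have h1 : Algebra.norm k a = LinearMap.det (LinearMap.mulLeft k a) := rfl
  rw [h1, h, ← rcp_pow, redNorm_apply, Polynomial.coeff_zero_eq_eval_zero, Polynomial.eval_pow,
    ← Polynomial.coeff_zero_eq_eval_zero, mul_pow, ← pow_mul, finrank_eq_deg_sq k A, sq]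

/-- The trace of left multiplication is a multiple of the reduced trace. -/
theorem trace_eq_deg_smul_redTrace (a : A) :
    LinearMap.trace k A (LinearMap.mulLeft k a) = deg k A • redTrace k A a := by
  obtain ⟨K, _, _, _, _, n, hn, ⟨φ⟩⟩ :=
    Groth.Agent.CurvesA.SepSplit.exists_galois_splitting k A
  apply (algebraMap k K).injective
  rw [← LinearMap.trace_baseChange, mulLeft_baseChange, map_nsmul, algebraMap_redTrace φ]
  have h1 := MatCP.trace_mulLeft (φ (1 ⊗ₜ[k] a))
  rw [← deg_eq_of_splitting k A φ] at h1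
  rw [← h1, ← LinearMap.trace_conj' (LinearMap.mulLeft K ((1 : K) ⊗ₜ[k] a)) φ.toLinearEquiv]
  congr 1
  ext x : 1
  simp [LinearEquiv.conj_apply]

/-- Units are the elements of nonzero reduced norm. -/
theorem isUnit_iff_redNorm_ne_zero (a : A) : IsUnit a ↔ redNorm k A a ≠ 0 := by
  constructor
  · intro h
    exact (h.map (redNorm k A)).ne_zero
  · intro h
    have h1 : Algebra.norm k a ≠ 0 := by
      rw [norm_eq_redNorm_pow]; exact pow_ne_zero _ h
    have h2 : IsUnit (LinearMap.det (LinearMap.mulLeft k a)) := by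
      rw [isUnit_iff_ne_zero]; exact h1
    have hinj : Function.Bijective (LinearMap.mulLeft k a) := by
      rw [← Module.End.isUnit_iff]
      exact (LinearMap.isUnit_iff_isUnit_det _).2 h2
    obtain ⟨b, hb⟩ := hinj.2 1
    rw [LinearMap.mulLeft_apply] at hb
    have hba : b * a = 1 := by
      apply hinj.1
      simp only [LinearMap.mulLeft_apply]
      rw [← mul_assoc, hb, one_mul, mul_one]
    exact ⟨⟨a, b, hb, hba⟩, rfl⟩

/-- The reduced characteristic polynomial on a subfield of maximal degree. -/
theorem rcp_of_subfield (K : Type w) [Field K] [Algebra k K] [FiniteDimensional k K]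
    (hK : finrank k K = deg k A) (ι : K →ₐ[k] A) (x : K) :
    rcp k A (ι x) = (LinearMap.mulLeft k x).charpoly := by
  have hpos := deg_pos k A
  symm
  apply rcp_unique
  · exact LinearMap.charpoly_monic _
  let : Module K A := Module.compHom A ι.toRingHom
  have hsm : ∀ (l : K) (y : A), l • y = ι l * y := fun _ _ => rfl
  have : IsScalarTower k K A := ⟨fun c l y => by rw [hsm, hsm, map_smul, smul_mul_assoc]⟩
  have h1 := MatCP.charpoly_of_field k K A x (LinearMap.mulLeft k (ι x)) (fun v => rfl)
  have h2 : finrank K A = deg k A := by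
    have h3 := Module.finrank_mul_finrank k K A
    rw [finrank_eq_deg_sq k A, hK, sq] at h3
    exact Nat.eq_of_mul_eq_mul_left hpos h3
  rw [h1, h2]

theorem redNorm_of_subfield (K : Type w) [Field K] [Algebra k K] (hK : finrank k K = deg k A)
    (ι : K →ₐ[k] A) (x : K) : redNorm k A (ι x) = Algebra.norm k x := by
  have hpos := deg_pos k A
  have : FiniteDimensional k K := FiniteDimensional.of_finrank_pos (by rw [hK]; exact hpos)
  have h := LinearMap.det_eq_sign_charpoly_coeff (LinearMap.mulLeft k x)
  have h1 : Algebra.norm k x = LinearMap.det (LinearMap.mulLeft k x) := rfl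
  rw [h1, h, ← rcp_of_subfield K hK ι x, redNorm_apply, hK]

theorem redTrace_of_subfield (K : Type w) [Field K] [Algebra k K] (hK : finrank k K = deg k A)
    (ι : K →ₐ[k] A) (x : K) : redTrace k A (ι x) = Algebra.trace k K x := by
  have hpos := deg_pos k A
  have : FiniteDimensional k K := FiniteDimensional.of_finrank_pos (by rw [hK]; exact hpos)
  classical
  let b := Module.finBasis k K
  have h1 : Algebra.trace k K x = LinearMap.trace k K (LinearMap.mulLeft k x) := rfl
  have : Nonempty (Fin (finrank k K)) := Fin.pos_iff_nonempty.1 (by rw [hK]; exact hpos)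
  rw [h1, LinearMap.trace_eq_matrix_trace k b, Matrix.trace_eq_neg_charpoly_coeff,
    LinearMap.charpoly_toMatrix, ← rcp_of_subfield K hK ι x, redTrace_apply, Fintype.card_fin, hK]

end K440.RedCP
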